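import Cfsg.Agent.H129.CycCard
import Cfsg.Agent.H436.Names
import Cfsg.Agent.H436.Ppd

/-!
# `G₂(q)`: elements of order `r ∣ Φ₃(q) Φ₆(q)` are real (S3938, E7 row (c); helper763)

* `untw_neg` : the cyclic tori of the untwisted groups with `-1 ∈ W` (and trivial centre): an element inverting `T`;
* `exists_neg_G2` : `-1 ∈ W(G₂)`;
* `real_of_T` : all elements of order `r` are conjugate to their inverses;
* `g2_real`.
-/

set_option autoImplicit false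
set_option linter.unusedSectionVars false
set_option linter.dupNamespace false

namespace Cfsg.Agent.H763.Wei

open CoxeterSystem Cfsg Cfsg.Lie Cfsg.Lie.ChevalleyDatum
open Cfsg.Agent.ChevalleyStructure Cfsg.Agent.ChevalleyStructure.Elts Cfsg.Agent.ChevalleyStructure.CoxeterGeom
  Cfsg.Agent.ChevalleyStructure.CoxeterGeomTypes Cfsg.Agent.ChevalleyStructure.NPerm
open Cfsg.Agent.Tits.Roots Cfsg.Agent.Tits.Core Cfsg.Agent.Nodes Cfsg.Agent.Nodes.Reps Cfsg.Agent.Nodes.BNOf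
  Cfsg.Agent.Nodes.RGDChev Cfsg.Agent.Nodes.Bruhat Cfsg.Agent.Nodes.SubComb Cfsg.Agent.Nodes.Coroot
open Cfsg.Agent.KFacts.RgdField Cfsg.Agent.KFacts.RgdChevCoord Cfsg.Agent.BpExc.TorCent Cfsg.Agent.BpExc.TorChev
open Cfsg.Agent.GpExc.Field Cfsg.Agent.BpExc.Tow Cfsg.Agent.BpExc.TowChev Cfsg.Agent.BpExc.Fr
  Cfsg.Agent.BpExc.LangFr Cfsg.Agent.LangThm Cfsg.Agent.BpExc Cfsg.Agent.H129.TorusChar Cfsg.Agent.H129.TorusCent
  Cfsg.Agent.H129.TorusTw Cfsg.Agent.H129.TorusMain Cfsg.Agent.H129.TorusUntw Cfsg.Agent.H129.TorAct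
  Cfsg.Agent.H129.WData Cfsg.Agent.H129.UntwTwo

universe u

/-! ### the abstract part -/

section Abs

variable {G : Type*} [Group G] [Finite G] {T : Subgroup G}

/-- every element of order `r` is conjugate into `T` -/
theorem conj_into (hc : IsCyclic ↥T) {r : ℕ} (hr : r.Prime) (hrT : r ∣ Nat.card ↥T)
    (hcent : ∀ y ∈ T, orderOf y = r → Subgroup.centralizer {y} ≤ T) {s : G} (hs : orderOf s = r) :
    ∃ g : G, g * s * g⁻¹ ∈ T := by
  have hrf : Fact r.Prime := ⟨hr⟩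
  obtain ⟨⟨x, hx⟩, hxr⟩ := exists_prime_orderOf_dvd_card' (G := ↥T) r hrT
  rw [Subgroup.orderOf_mk] at hxr
  -- a Sylow subgroup containing `x`
  have hxp : IsPGroup r ↥(Subgroup.zpowers x) := IsPGroup.of_card (n := 1) (by rw [Nat.card_zpowers, hxr, pow_one])
  obtain ⟨P, hP⟩ := hxp.exists_le_sylow
  have hxP : x ∈ (P : Subgroup G) := hP (Subgroup.mem_zpowers x)
  have hx1 : x ≠ 1 := by
    rintro rfl
    rw [orderOf_one] at hxr
    exact hr.one_lt.ne hxr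
  have hntP : Nontrivial ↥(P : Subgroup G) := ⟨⟨x, hxP⟩, 1, fun h => hx1 (congrArg Subtype.val h)⟩
  -- the centre of `P`
  have hZ := P.isPGroup'.center_nontrivial
  have hZp : IsPGroup r ↥(Subgroup.center ↥(P : Subgroup G)) := P.isPGroup'.to_subgroup _
  have hrZ : r ∣ Nat.card ↥(Subgroup.center ↥(P : Subgroup G)) := by
    obtain ⟨n, hn, h1⟩ := hZp.nontrivial_iff_card.1 hZ
    rw [h1]
    exact dvd_pow_self r hn.ne'
  obtain ⟨z, hz⟩ := exists_prime_orderOf_dvd_card' (G := ↥(Subgroup.center ↥(P : Subgroup G))) r hrZ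
  have hz' : orderOf ((z : ↥(P : Subgroup G)) : G) = r := by
    rw [Subgroup.orderOf_coe, Subgroup.orderOf_coe, hz]
  have hzx : ∀ y ∈ (P : Subgroup G), ((z : ↥(P : Subgroup G)) : G) * y = y * ((z : ↥(P : Subgroup G)) : G) := by
    intro y hy
    have h1 := Subgroup.mem_center_iff.1 z.2 ⟨y, hy⟩
    exact (congrArg Subtype.val h1).symm
  have hzT : ((z : ↥(P : Subgroup G)) : G) ∈ T := hcent x hx hxr (by
    rw [Subgroup.mem_centralizer_singleton_iff]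
    exact hzx x hxP)
  have hPT : (P : Subgroup G) ≤ T := fun y hy => hcent _ hzT hz' (by
    rw [Subgroup.mem_centralizer_singleton_iff]
    exact (hzx y hy).symm)
  -- `s`
  have hsp : IsPGroup r ↥(Subgroup.zpowers s) := IsPGroup.of_card (n := 1) (by rw [Nat.card_zpowers, hs, pow_one])
  obtain ⟨P', hP'⟩ := hsp.exists_le_sylow
  obtain ⟨g, hg⟩ := MulAction.exists_smul_eq G P' P
  refine ⟨g, hPT ?_⟩
  rw [← hg]
  exact Sylow.smul_def (g := g) (P := P') ▸ ⟨s, hP' (Subgroup.mem_zpowers s), rfl⟩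

/-- **the criterion** -/
theorem real_of_T (hc : IsCyclic ↥T) {r : ℕ} (hr : r.Prime) (hrT : r ∣ Nat.card ↥T)
    (hcent : ∀ y ∈ T, orderOf y = r → Subgroup.centralizer {y} ≤ T) (hinv : ∃ y : G, ∀ b ∈ T, y * b * y⁻¹ = b⁻¹)
    {s : G} (hs : orderOf s = r) : ∃ t : G, t * s * t⁻¹ = s⁻¹ := by
  obtain ⟨g, hg⟩ := conj_into hc hr hrT hcent hs
  obtain ⟨y, hy⟩ := hinv
  refine ⟨g⁻¹ * y * g, ?_⟩
  have h1 := hy _ hg
  calc g⁻¹ * y * g * s * (g⁻¹ * y * g)⁻¹ = g⁻¹ * (y * (g * s * g⁻¹) * y⁻¹) * g := by group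
    _ = g⁻¹ * (g * s * g⁻¹)⁻¹ * g := by rw [h1]
    _ = s⁻¹ := by group

end Abs

/-! ### the tori -/

section Tori

variable {D : ChevalleyDatum} {l : ℕ} {M : CoxeterMatrix (Fin l)} (hp : IsType D l M)
  {W : Type*} [Group W] (cs : CoxeterSystem M W)

include hp cs in
/-- **The cyclic tori of the untwisted groups with `-1 ∈ W`.** -/
theorem untw_neg [Finite W] (hl : 0 < l) {F : Type u} [Field F] [Fintype F] {q : ℕ} (hq : Fintype.card F = q)
    {d' : ℕ} {B' : Fin l → Fin l → ℤ} (hB : InvC D l d' B') (hd' : d' ≠ 0) (hF : ∀ a : F, ∃ b : F, b ^ d' = a)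
    {v : W} (hv : ∀ x, rep cs hp.isCartan v x = -x)
    {A : Mat l} (hA : ∀ i j, A i j = cartanOf D l i j) {L : List (Fin l × Mat l)} (hL : ChainOK A L)
    {V B : Mat l} {c : Fin l → ℤ} (hcyc : CycOK l (hd L) V B c) {m : ℕ} {R : Fin m → Fin l → ℤ} {prv dep : ℕ → ℕ}
    (hR : RootOK D l (hd L) R prv dep) {N : ℕ} (hfN : fN c (q : ℤ) = N) (hqN : q.Coprime N) {r : ℕ} (hr : r.Prime)
    (hrN : r ∣ N) (hrW : ¬ r ∣ Nat.card W) (hG : ∀ s, ¬ (r : ℤ) ∣ Gq B (q : ℤ) (R s)) :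
    ∃ T : Subgroup ↥(D.group F), IsCyclic ↥T ∧ Nat.card ↥T = N ∧
      (∀ y ∈ T, orderOf y = r → Subgroup.centralizer {y} ≤ T) ∧
      ∃ y : ↥(D.group F), ∀ b ∈ T, y * b * y⁻¹ = b⁻¹ := by
  have hlin := lin_refl hp cs hA hL
  have hc := cyc_of hlin hcyc
  obtain ⟨p, e, hpF, hpc, hpk, he, rfl, hk⟩ := exists_closure hq
  have hpN : ¬ p ∣ N := fun h1 => by
    have h2 : p ∣ Nat.gcd (p ^ e) N := Nat.dvd_gcd (dvd_pow_self p he.ne') h1
    rw [hqN] at h2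
    exact hpF.out.one_lt.ne' (Nat.dvd_one.1 h2)
  have hN0 : N ≠ 0 := fun h0 => hpN (by rw [h0]; exact dvd_zero p)
  have hN1 : 1 ≤ N := Nat.pos_of_ne_zero hN0
  have hd : ∀ y : ↥(D.group (AlgebraicClosure F)), phi D (AlgebraicClosure F) p e y = y →
      y ^ 1 ∈ (emb hp.inList (algebraMap F (AlgebraicClosure F))).range := by
    intro y hy
    rw [pow_one]
    exact fix_range hp cs _ hq hB hd' hF hy
  obtain ⟨T, h1, h2, h3, h4, h5, -⟩ := exists_T (k := AlgebraicClosure F) (hp := hp) (cs := cs) hl hk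
    (hN := nsys_of_locFin hp cs hk p) he isFrob_phi (fr_phi hp cs) hB hd'
    (w := cs.wordProd (L.map Prod.fst)) hc hfN hpN
    (e0 := emb hp.inList (algebraMap F (AlgebraicClosure F))) (emb_injective hp.inList _) (phi_emb hp _ hq) hd
  have hgood : ∀ a, IsRoot cs hp.isCartan a → ¬ (r : ℤ) ∣ Gq B ((p ^ e : ℕ) : ℤ) a := fun a ha =>
    not_dvd_G hp cs hlin hc hR hfN hr hrN hqN hG ha
  rw [one_mul] at h3
  refine ⟨T, h1, Nat.dvd_antisymm h2 h3, h4 r hr hrW hgood, ?_⟩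
  obtain ⟨y, hy⟩ := h5 r hr hrN hrW hgood v (N - 1)
    (fun x => by rw [hv, hv, map_neg])
    (fun x => by
      have h5 : Gq B ((p ^ e : ℕ) : ℤ) (-x) = - Gq B ((p ^ e : ℕ) : ℤ) x := by
        have h6 := Gq_add B ((p ^ e : ℕ) : ℤ) x (-x)
        rw [add_neg_cancel, Gq_zero] at h6
        linarith
      rw [hv, h5, Nat.cast_sub hN1]
      exact ⟨-Gq B ((p ^ e : ℕ) : ℤ) x, by push_cast; ring⟩)
  refine ⟨y, fun b hb => ?_⟩
  have h6 := hy b hb
  rw [pow_one] at h6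
  have h7 : b ^ N = 1 := by
    rw [← orderOf_dvd_iff_pow_eq_one]
    refine dvd_trans ?_ h2
    have := orderOf_dvd_natCard (⟨b, hb⟩ : ↥T)
    rwa [Subgroup.orderOf_mk] at this
  have h8 : b ^ (N - 1) = b⁻¹ := by
    rw [eq_inv_iff_mul_eq_one, ← pow_succ, Nat.sub_add_cancel hN1, h7]
  rw [h8] at h6
  calc y * b * y⁻¹ = (y * b⁻¹ * y⁻¹)⁻¹ := by group
    _ = b⁻¹ := by rw [h6]

end Tori

/-! ### `G₂` -/

open Cfsg.Agent.H129 Cfsg.Agent.H129.CycT Cfsg.Agent.H129.CycCard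

theorem Th3_eq : ∀ j m : Fin 2, (if j = m then (-1 : ℤ) else 0) =
    ∑ b, (∑ a, DataG2h.Th j a * DataG2h.Th a b) * DataG2h.Th b m := by
  decide +kernel

/-- **`-1` lies in the Weyl group of type `G₂`.** -/
theorem exists_neg_G2 {W : Type*} [Group W] (cs : CoxeterSystem CoxeterMatrix.G₂ W)
    (hp : IsType Cfsg.Lie.chevG2 2 CoxeterMatrix.G₂) : ∃ v : W, ∀ x, rep cs hp.isCartan v x = -x := by
  have hlin := lin_refl hp cs DataG2h.hA DataG2h.chainOK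
  rw [DataG2h.hd_eq] at hlin
  set w := cs.wordProd (DataG2h.chain.map Prod.fst) with hw
  set θ := theta hp cs w (AddEquiv.refl (Fin 2 → ℤ)) with hθ
  have hθw : ∀ x, θ x = rep cs hp.isCartan w x := fun x => by
    rw [hθ, theta_apply, AddEquiv.refl_apply]
  have h3 : ∀ x, -x = θ (θ (θ x)) := by
    intro x
    exact TwT.cube_apply hlin (φ := -(AddMonoidHom.id (Fin 2 → ℤ))) (fun j m => by
      rw [← Th3_eq]
      show -(sr j : Fin 2 → ℤ) m = _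
      by_cases hm : j = m
      · subst hm; rw [if_pos rfl, sr_self]
      · rw [if_neg hm, sr_ne (Ne.symm hm), neg_zero]) x
  refine ⟨w * w * w, fun x => ?_⟩
  rw [h3 x]
  simp only [rep_mul_apply]
  simp only [hθw]

section G2

variable {F : Type u} [Field F] [Fintype F] {q : ℕ}

theorem g2_neg_3 (hq : Fintype.card F = q) {m : ℕ} (hm : (m : ℤ) = 1 + (q : ℤ) + (q : ℤ) ^ 2) {r : ℕ} (hr : r.Prime)
    (hrm : r ∣ m) (hr3 : r ≠ 3) : ∃ T : Subgroup ↥(chevG2.group F), IsCyclic ↥T ∧ Nat.card ↥T = m ∧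
      (∀ y ∈ T, orderOf y = r → Subgroup.centralizer {y} ≤ T) ∧
      ∃ y : ↥(chevG2.group F), ∀ b ∈ T, y * b * y⁻¹ = b⁻¹ := by
  have : Finite CoxeterMatrix.G₂.Group := Nat.finite_of_card_ne_zero (by rw [cardW_G2]; norm_num)
  obtain ⟨v, hv⟩ := exists_neg_G2 CoxeterMatrix.G₂.toCoxeterSystem typeG2
  exact untw_neg typeG2 CoxeterMatrix.G₂.toCoxeterSystem (by norm_num) hq TorusChar.invC_G2 one_ne_zero
    (fun a => ⟨a, pow_one a⟩) hv DataG2.hA DataG2.chainOK DataG2.cycOK DataG2.rootOK (by rw [DataG2.fN_eq, hm])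
    (UntwData.coprime_of_eq (a := 1 + (q : ℤ)) (by rw [hm]; ring)) hr hrm
    (good_G2_3 hm hr hrm hr3).1 (good_G2_3 hm hr hrm hr3).2

theorem g2_neg_6 (hq : Fintype.card F = q) {m : ℕ} (hm : (m : ℤ) = 1 - (q : ℤ) + (q : ℤ) ^ 2) {r : ℕ} (hr : r.Prime)
    (hrm : r ∣ m) (hr3 : r ≠ 3) : ∃ T : Subgroup ↥(chevG2.group F), IsCyclic ↥T ∧ Nat.card ↥T = m ∧
      (∀ y ∈ T, orderOf y = r → Subgroup.centralizer {y} ≤ T) ∧
      ∃ y : ↥(chevG2.group F), ∀ b ∈ T, y * b * y⁻¹ = b⁻¹ := by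
  have : Finite CoxeterMatrix.G₂.Group := Nat.finite_of_card_ne_zero (by rw [cardW_G2]; norm_num)
  obtain ⟨v, hv⟩ := exists_neg_G2 CoxeterMatrix.G₂.toCoxeterSystem typeG2
  exact untw_neg typeG2 CoxeterMatrix.G₂.toCoxeterSystem (by norm_num) hq TorusChar.invC_G2 one_ne_zero
    (fun a => ⟨a, pow_one a⟩) hv DataG2h.hA DataG2h.chainOK DataG2h.cycOK DataG2h.rootOK (by rw [DataG2h.fN_eq, hm])
    (UntwData.coprime_of_eq (a := -1 + (q : ℤ)) (by rw [hm]; ring)) hr hrm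
    (good_G2_6 hm hr hrm hr3).1 (good_G2_6 hm hr hrm hr3).2

end G2

open Cfsg.Agent.H436 Cfsg.Agent.OrdDiv

/-- a prime divisor of `Q^3 - 1` not of `Q - 1` divides `1 + Q + Q²`, and it is not `3` -/
theorem prim3 {Q r : ℕ} (hQ : 1 ≤ Q) (h : Prim Q 3 r) : r ∣ Q ^ 2 + Q + 1 ∧ r ≠ 3 := by
  have h1 := h.dvd (m := 3) dvd_rfl
  have h2 := h.not_dvd_sub (m := 1) (by norm_num)
  have h2' := h.not_dvd_sub (m := 2) (by norm_num)
  have e1 : Q ^ 3 - 1 = (Q ^ 1 - 1) * (Q ^ 2 + Q + 1) := by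
    obtain ⟨a, rfl⟩ : ∃ a, Q = a + 1 := ⟨Q - 1, by omega⟩
    rw [pow_one, Nat.add_sub_cancel]
    have : (a + 1) ^ 3 = a * ((a + 1) ^ 2 + (a + 1) + 1) + 1 := by ring
    omega
  refine ⟨?_, ?_⟩
  · rw [e1] at h1
    exact (h.prime.dvd_mul.1 h1).resolve_left h2
  · rintro rfl
    apply h2'
    have h3 : Q % 3 = 1 ∨ Q % 3 = 2 := by
      have h4 : ¬ 3 ∣ Q := h.not_dvd
      omega
    have h5 : Q ^ 2 % 3 = 1 := by
      rw [Nat.pow_mod]
      rcases h3 with h3 | h3 <;> rw [h3]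
    omega

theorem prim6 {Q r : ℕ} (hQ : 1 ≤ Q) (h : Prim Q 6 r) : r ∣ Q ^ 2 - Q + 1 ∧ r ≠ 3 := by
  have h1 := h.dvd_add (m := 3) (by norm_num) (by norm_num)
  have h2' := h.not_dvd_sub (m := 2) (by norm_num)
  have hle : Q ≤ Q ^ 2 := by nlinarith
  have e1 : Q ^ 3 + 1 = (Q + 1) * (Q ^ 2 - Q + 1) := by
    zify [hle]
    ring
  have h2 : ¬ r ∣ Q + 1 := by
    intro h3
    apply h2'
    have e2 : Q ^ 2 - 1 = (Q + 1) * (Q - 1) := by
      zify [Nat.one_le_pow 2 Q hQ, hQ]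
      ring
    rw [e2]
    exact h3.mul_right _
  refine ⟨?_, ?_⟩
  · rw [e1] at h1
    exact (h.prime.dvd_mul.1 h1).resolve_left h2
  · rintro rfl
    apply h2'
    have h3 : Q % 3 = 1 ∨ Q % 3 = 2 := by
      have h4 : ¬ 3 ∣ Q := h.not_dvd
      omega
    have h5 : Q ^ 2 % 3 = 1 := by
      rw [Nat.pow_mod]
      rcases h3 with h3 | h3 <;> rw [h3]
    omega

/-- **(c)** : in `G₂(Q)` the elements of order `r`, `r` a primitive prime divisor of `Q^6 - 1` or `Q^3 - 1`, are real -/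
theorem g2_real {Q : ℕ} {S : Type*} [Group S] [Finite S] (hS : IsNamed (.g2 Q) S) {r : ℕ}
    (hr : Prim Q 6 r ∨ Prim Q 3 r) {s : S} (ho : orderOf s = r) : ∃ t : S, t * s * t⁻¹ = s⁻¹ := by
  obtain ⟨F, _, _, hF, ⟨e⟩⟩ := hS.real
  have hQ1 : 1 ≤ Q := by
    have := hS.cond.1
    omega
  have hfin : Finite ↥(chevG2.group F) := Finite.of_equiv S e.toEquiv
  have ho' : orderOf (e s) = r := by
    rw [← ho]
    exact orderOf_injective e.toMonoidHom e.injective s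
  have key : ∃ t : ↥(chevG2.group F), t * e s * t⁻¹ = (e s)⁻¹ := by
    rcases hr with h | h
    · obtain ⟨h1, h3⟩ := prim6 hQ1 h
      have hle : Q ≤ Q ^ 2 := by nlinarith
      obtain ⟨T, hc, hT, hcent, hinv⟩ := g2_neg_6 hF (m := Q ^ 2 - Q + 1) (by push_cast [Nat.cast_sub hle]; ring)
        h.prime h1 h3
      exact real_of_T hc h.prime (by rw [hT]; exact h1) hcent hinv ho'
    · obtain ⟨h1, h3⟩ := prim3 hQ1 h
      obtain ⟨T, hc, hT, hcent, hinv⟩ := g2_neg_3 hF (m := Q ^ 2 + Q + 1) (by push_cast; ring) h.prime h1 h3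
      exact real_of_T hc h.prime (by rw [hT]; exact h1) hcent hinv ho'
  obtain ⟨t, ht⟩ := key
  refine ⟨e.symm t, e.injective ?_⟩
  rw [map_mul, map_mul, map_inv, map_inv, e.apply_symm_apply]
  exact ht

end Cfsg.Agent.H763.Wei
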